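import Cfsg.Prelude.Def_Classical

/-! `PSU` only depends on the isomorphism type of the field. -/

set_option autoImplicit false

namespace CfsgLib.Leech.Triangle

open Cfsg
open scoped Matrix

variable {F F' : Type*} [Field F] [Field F'] {n q : ℕ}

theorem map_mem_su (e : F ≃+* F') {g : Matrix.SpecialLinearGroup (Fin n) F} (hg : g ∈ Cfsg.SU n F q) :
    Matrix.SpecialLinearGroup.map e.toRingHom g ∈ Cfsg.SU n F' q := by
  intro u v
  have hmv : ∀ w : Fin n → F', (Cfsg.slToMat n F' (Matrix.SpecialLinearGroup.map e.toRingHom g)) *ᵥ w =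
      e ∘ ((Cfsg.slToMat n F g) *ᵥ (e.symm ∘ w)) := fun w => funext fun i => by
    simp [Cfsg.slToMat, Matrix.mulVec, dotProduct, Matrix.SpecialLinearGroup.map]
    rfl
  have hh : ∀ a b : Fin n → F, Cfsg.hermForm n F' q (e ∘ a) (e ∘ b) = e (Cfsg.hermForm n F q a b) :=
    fun a b => by simp [Cfsg.hermForm]
  rw [hmv, hmv, hh, hg]
  simp [Cfsg.hermForm]

/-- The unitary groups over isomorphic fields. -/
def suEquivRing (e : F ≃+* F') : Cfsg.SU n F q ≃* Cfsg.SU n F' q where
  toFun g := ⟨Matrix.SpecialLinearGroup.map e.toRingHom g.1, map_mem_su e g.2⟩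
  invFun g := ⟨Matrix.SpecialLinearGroup.map e.symm.toRingHom g.1, map_mem_su e.symm g.2⟩
  left_inv g := by ext i j; simp
  right_inv g := by ext i j; simp
  map_mul' a b := Subtype.ext (map_mul _ _ _)

/-- The projective unitary groups over isomorphic fields. -/
noncomputable def psuEquivRing (e : F ≃+* F') : Cfsg.PSU n F q ≃* Cfsg.PSU n F' q :=
  QuotientGroup.congr _ _ (suEquivRing e) (by
    ext x
    simp only [Subgroup.mem_map, Subgroup.mem_center_iff]
    constructor
    · rintro ⟨y, hy, rfl⟩ z
      obtain ⟨z, rfl⟩ := (suEquivRing (n := n) (q := q) e).surjective z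
      show suEquivRing e z * suEquivRing e y = suEquivRing e y * suEquivRing e z
      rw [← map_mul, ← map_mul, hy]
    · intro hx
      obtain ⟨y, rfl⟩ := (suEquivRing (n := n) (q := q) e).surjective x
      exact ⟨y, fun z => (suEquivRing e).injective (by rw [map_mul, map_mul, hx]), rfl⟩)

end CfsgLib.Leech.Triangle
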