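import Cfsg.Agent.Lib.Leech.Stab.Cert

/-! Elements of the automorphism group of the Leech lattice from checked integer matrices. -/

set_option autoImplicit false

namespace CfsgLib.Leech.Triangle

open Cfsg CfsgLib CfsgLib.Leech.Stab
open CfsgLib.Leech.Orbits (vecOf leechB_of_mem)

/-- Row `p` of a matrix stored by bit positions. -/
def rowF (A : List (List ℤ)) (p : GolayPt) : GolayPt → ℤ := vecOf (A.getD (Golay.bit p) [])

/-- The map `x ↦ (x · A) / 8`, given the transposed matrix. -/
def matFun (T : List (List ℤ)) (x : GolayPt → ℤ) : GolayPt → ℤ := fun q => dotInt x (rowF T q) / 8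

/-- The scalar products of the rows are 64 times the identity. -/
def orthB (A : List (List ℤ)) : Bool :=
  (List.range 24).all fun i => (List.range 24).all fun j =>
    dotZ (A.getD i []) (A.getD j []) == if Nat.beq i j then 64 else 0

/-- The images of the generators are lattice vectors. -/
def mapsB (T : List (List ℤ)) : Bool :=
  (List.range 59).all fun k =>
    (List.range 24).all (fun i => dotZ (listOf (leechGen k)) (T.getD i []) % 8 == 0) &&
      leechB (vecOf ((List.range 24).map fun i => dotZ (listOf (leechGen k)) (T.getD i []) / 8))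

/-- One list of rows is the transpose of the other. -/
def transB (A T : List (List ℤ)) : Bool :=
  (List.range 24).all fun i => Nat.beq (A.getD i []).length 24 && Nat.beq (T.getD i []).length 24 &&
    (List.range 24).all fun j => (A.getD i []).getD j 0 == (T.getD j []).getD i 0

/-- The full check. -/
def elB (A T : List (List ℤ)) : Bool :=
  transB A T && orthB A && orthB T && mapsB A && mapsB T

variable {A T : List (List ℤ)}

theorem transB_symm (h : transB A T = true) : transB T A = true := by
  simp only [transB, List.all_eq_true, List.mem_range, Bool.and_eq_true, Nat.beq_eq, beq_iff_eq] at h ⊢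
  exact fun i hi => ⟨⟨(h i hi).1.2, (h i hi).1.1⟩, fun j hj => ((h j hj).2 i hi).symm⟩

theorem rowF_symm (h : transB A T = true) (p q : GolayPt) : rowF A p q = rowF T q p := by
  simp only [transB, List.all_eq_true, List.mem_range, Bool.and_eq_true, beq_iff_eq] at h
  exact (h _ (Golay.bit_lt p)).2 _ (Golay.bit_lt q)

theorem listOf_rowF (h : transB A T = true) (p : GolayPt) :
    listOf (rowF A p) = A.getD (Golay.bit p) [] := by
  simp only [transB, List.all_eq_true, List.mem_range, Bool.and_eq_true, Nat.beq_eq] at h
  exact listOf_vecOf (h _ (Golay.bit_lt p)).1.1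

theorem dot_rows (h : transB A T = true) (ho : orthB A = true) (p q : GolayPt) :
    dotInt (rowF A p) (rowF A q) = if p = q then 64 else 0 := by
  rw [← dotZ_listOf, listOf_rowF h, listOf_rowF h]
  simp only [orthB, List.all_eq_true, List.mem_range, beq_iff_eq] at ho
  rw [ho _ (Golay.bit_lt p) _ (Golay.bit_lt q)]
  by_cases hpq : p = q
  · subst hpq; simp
  · have hne : Golay.bit p ≠ Golay.bit q := fun e => hpq (Golay.bit_injective e)
    rw [if_neg hpq, if_neg (by rw [Nat.beq_eq]; exact hne)]

theorem dotInt_add_left {a b z : GolayPt → ℤ} : dotInt (a + b) z = dotInt a z + dotInt b z := by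
  simp [dotInt, add_mul, Finset.sum_add_distrib]

theorem maps_spec (h : transB T A = true) (hm : mapsB T = true) {x : GolayPt → ℤ}
    (hx : x ∈ leechLattice) : (∀ q, dotInt x (rowF T q) % 8 = 0) ∧ matFun T x ∈ leechLattice := by
  simp only [mapsB, List.all_eq_true, List.mem_range, Bool.and_eq_true, beq_iff_eq] at hm
  have hdot : ∀ k q, dotInt (leechGen k) (rowF T q) = dotZ (listOf (leechGen k)) (T.getD (Golay.bit q) []) :=
    fun k q => by rw [← dotZ_listOf, listOf_rowF h]
  rw [← genSub_eq] at hx
  induction hx using AddSubgroup.closure_induction with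
  | mem y hy =>
    obtain ⟨k, hk, rfl⟩ := hy
    refine ⟨fun q => by rw [hdot]; exact (hm k hk).1 _ (Golay.bit_lt q), ?_⟩
    have e := mem_of_leechB (hm k hk).2
    convert e using 1
    funext q
    simp [matFun, vecOf, hdot, Golay.bit_lt q]
  | zero =>
    have h0 : ∀ q, dotInt (0 : GolayPt → ℤ) (rowF T q) = 0 := fun q => by simp [dotInt]
    refine ⟨fun q => by rw [h0]; rfl, ?_⟩
    have : matFun T 0 = 0 := funext fun q => by simp [matFun, h0]
    rw [this]; exact zero_mem _
  | add a b _ _ ha hb =>
    refine ⟨fun q => by rw [dotInt_add_left]; have := ha.1 q; have := hb.1 q; omega, ?_⟩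
    have : matFun T (a + b) = matFun T a + matFun T b := funext fun q => by
      simp only [matFun, Pi.add_apply, dotInt_add_left]
      have := ha.1 q; have := hb.1 q; omega
    rw [this]; exact add_mem ha.2 hb.2
  | neg a _ ha =>
    have hn : ∀ q, dotInt (-a) (rowF T q) = -dotInt a (rowF T q) := fun q => by
      simp [dotInt, Finset.sum_neg_distrib]
    refine ⟨fun q => by rw [hn]; have := ha.1 q; omega, ?_⟩
    have : matFun T (-a) = -matFun T a := funext fun q => by
      simp only [matFun, Pi.neg_apply, hn]
      have := ha.1 q; omega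
    rw [this]; exact neg_mem ha.2

theorem eight_mul_matFun (h : transB T A = true) (hm : mapsB T = true) {x : GolayPt → ℤ}
    (hx : x ∈ leechLattice) (q : GolayPt) : 8 * matFun T x q = ∑ p, x p * rowF T q p := by
  have e := (maps_spec h hm hx).1 q
  rw [matFun]
  show 8 * (dotInt x (rowF T q) / 8) = dotInt x (rowF T q)
  omega

theorem matFun_matFun (h : elB A T = true) {x : GolayPt → ℤ} (hx : x ∈ leechLattice) :
    matFun A (matFun T x) = x := by
  simp only [elB, Bool.and_eq_true] at h
  obtain ⟨⟨⟨⟨ht, ho⟩, -⟩, hmA⟩, hmT⟩ := h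
  funext r
  have h1 := eight_mul_matFun ht hmA (maps_spec (transB_symm ht) hmT hx).2 r
  have h2 : 64 * matFun A (matFun T x) r = 64 * x r := by
    have : 64 * matFun A (matFun T x) r = ∑ q, (8 * matFun T x q) * rowF A r q := by
      rw [show (64 : ℤ) = 8 * 8 by norm_num, mul_assoc, h1, Finset.mul_sum]
      exact Finset.sum_congr rfl fun q _ => by ring
    rw [this]
    simp only [eight_mul_matFun (transB_symm ht) hmT hx, Finset.sum_mul]
    rw [Finset.sum_comm]
    have e : ∀ p, ∑ q, x p * rowF T q p * rowF A r q = x p * dotInt (rowF A p) (rowF A r) := by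
      intro p
      rw [dotInt, Finset.mul_sum]
      exact Finset.sum_congr rfl fun q _ => by rw [rowF_symm ht p q]; ring
    simp only [e, dot_rows ht ho, mul_ite, mul_zero, Finset.sum_ite_eq', Finset.mem_univ, if_true]
    ring
  omega

theorem matFun_add (h : transB T A = true) (hm : mapsB T = true) {x y : GolayPt → ℤ}
    (hx : x ∈ leechLattice) (hy : y ∈ leechLattice) : matFun T (x + y) = matFun T x + matFun T y :=
  funext fun q => by
    have h1 := (maps_spec h hm hx).1 q
    have h2 := (maps_spec h hm hy).1 q
    simp only [matFun, Pi.add_apply, dotInt_add_left]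
    omega

theorem sqNorm_matFun (h : elB A T = true) {x : GolayPt → ℤ} (hx : x ∈ leechLattice) :
    sqNorm (matFun T x) = sqNorm x := by
  have hh := h
  simp only [elB, Bool.and_eq_true] at h
  obtain ⟨⟨⟨⟨ht, -⟩, -⟩, hmA⟩, hmT⟩ := h
  have hy := (maps_spec (transB_symm ht) hmT hx).2
  set y := matFun T x with hyd
  have h8 : 8 * sqNorm y = 8 * ∑ p, x p * matFun A y p := by
    rw [sqNorm, Finset.mul_sum, Finset.mul_sum]
    have e1 : ∀ q, 8 * y q ^ 2 = ∑ p, x p * rowF T q p * y q := fun q => by
      rw [← Finset.sum_mul, ← eight_mul_matFun (transB_symm ht) hmT hx, ← hyd]; ring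
    have e2 : ∀ p, 8 * (x p * matFun A y p) = ∑ q, x p * rowF T q p * y q := fun p => by
      rw [show 8 * (x p * matFun A y p) = x p * (8 * matFun A y p) by ring,
        eight_mul_matFun ht hmA hy, Finset.mul_sum]
      exact Finset.sum_congr rfl fun q _ => by rw [rowF_symm ht p q]; ring
    rw [Finset.sum_congr rfl fun q _ => e1 q, Finset.sum_comm]
    exact Finset.sum_congr rfl fun p _ => (e2 p).symm
  rw [hyd, matFun_matFun hh hx, ← hyd] at h8
  have : sqNorm x = ∑ p, x p * x p := Finset.sum_congr rfl fun p _ => pow_two _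
  omega

theorem elB_symm (h : elB A T = true) : elB T A = true := by
  simp only [elB, Bool.and_eq_true] at h ⊢
  exact ⟨⟨⟨⟨transB_symm h.1.1.1.1, h.1.1.2⟩, h.1.1.1.2⟩, h.2⟩, h.1.2⟩

/-- The automorphism given by a checked matrix. -/
def matEl (h : elB A T = true) : Co0 :=
  mkCo0 (matFun T) (matFun A)
    (fun _ hx => (maps_spec (transB_symm (by simp only [elB, Bool.and_eq_true] at h; exact h.1.1.1.1))
      (by simp only [elB, Bool.and_eq_true] at h; exact h.2) hx).2)
    (fun _ hx => (maps_spec (by simp only [elB, Bool.and_eq_true] at h; exact h.1.1.1.1)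
      (by simp only [elB, Bool.and_eq_true] at h; exact h.1.2) hx).2)
    (fun _ hx => matFun_matFun h hx) (fun _ hx => matFun_matFun (elB_symm h) hx)
    (fun _ hx _ hy => matFun_add (transB_symm (by simp only [elB, Bool.and_eq_true] at h; exact h.1.1.1.1))
      (by simp only [elB, Bool.and_eq_true] at h; exact h.2) hx hy)
    (fun _ hx => sqNorm_matFun h hx)

/-- The packed columns. -/
def colsOf (A : List (List ℤ)) : List ℕ := A.map fun l => (lin l + (offN : ℤ)).toNat

/-- The check of the packing. -/
def colsB (A : List (List ℤ)) : Bool :=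
  Nat.beq A.length 24 && A.all fun l => decide (0 ≤ lin l + (offN : ℤ))

theorem matEl_valid (h : elB A T = true) (hc : colsB A = true) : Valid (matEl h) (colsOf A) := by
  simp only [colsB, Bool.and_eq_true, Nat.beq_eq, List.all_eq_true, decide_eq_true_eq] at hc
  have ht : transB A T = true := by simp only [elB, Bool.and_eq_true] at h; exact h.1.1.1.1
  have himg : ∀ p, ((matEl h • e8L p : leechLattice) : GolayPt → ℤ) = rowF A p := fun p => by
    rw [matEl, coe_mkCo0_smul]
    funext q
    show dotInt (e8 p) (rowF T q) / 8 = _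
    rw [dotInt, Finset.sum_eq_single p (fun b _ hb => by
      rw [show e8 p b = 0 from if_neg fun e => hb (Golay.bit_injective e), zero_mul]) (fun hn => absurd (Finset.mem_univ p) hn)]
    simp [e8, rowF_symm ht p q]
  refine List.ext_getElem (by simp [colsOf, hc.1, listOf_length]) fun i h1 h2 => ?_
  have hi : i < A.length := by simpa [colsOf] using h1
  have hi' : i < 24 := hc.1 ▸ hi
  simp only [colsOf, List.getElem_map, listOf, List.getElem_range]
  have e1 : listOf (rowF A (Golay.pt i)) = A[i] := by
    rw [listOf_rowF ht, Golay.bit_pt hi', List.getD_eq_getElem _ _ hi]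
  show colZ _ = lin (listOf ((matEl h • e8L (Golay.pt i) : leechLattice) : GolayPt → ℤ))
  rw [himg, e1, colZ, Int.toNat_of_nonneg (hc.2 _ (List.getElem_mem hi)), offN_eq]
  ring

end CfsgLib.Leech.Triangle
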