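import Cfsg.Agent.Lib.Leech.Triangle.U43Checks
import Cfsg.Agent.Lib.Leech.Triangle.U43Model
import Cfsg.Agent.Lib.Leech.Simple.Pairs
import Cfsg.Agent.Lib.Leech.Stab.McLOrbits

/-!
The stabiliser of a point of the configuration of 275 acts on 280 sets of minimal vectors as
`PSU₄(3)` acts on the isotropic points.
-/

set_option autoImplicit false

namespace CfsgLib.Leech.Triangle.U43

open Cfsg CfsgLib CfsgLib.Leech CfsgLib.Leech.Stab CfsgLib.CosetEnum
open scoped Pointwise

/-- The joint stabiliser of three vectors. -/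
noncomputable def triStab (a b c : leechLattice) : Subgroup Co0 :=
  MulAction.stabilizer Co0 a ⊓ MulAction.stabilizer Co0 b ⊓ MulAction.stabilizer Co0 c

/-- The vector with a number. -/
noncomputable def vec (i : Fin 112) : leechLattice := lat (cd i)

theorem vec_spec (i : Fin 112) : latB (cd i) = true ∧ (∀ k < 10, inc i k < 280) ∧
    (i.1 + 1 ≠ 112 → cd i < cd (i.1 + 1)) := by
  have h := allFrom_spec _ _ _ vec_ok i.1 (Nat.zero_le _) (by have := i.2; omega)
  simp only [vecOK, Bool.and_eq_true, Bool.or_eq_true, Nat.beq_eq, Nat.blt_eq] at h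
  exact ⟨h.1.1, fun k hk => Nat.le_of_ble_eq_true
    (allFrom_spec _ _ _ h.1.2 k (Nat.zero_le _) (by omega)), fun hne => h.2.resolve_left hne⟩

theorem cd_strictMono : StrictMono fun i : Fin 112 => cd i := by
  refine Fin.strictMono_iff_lt_succ.2 fun i => ?_
  exact (vec_spec i.castSucc).2.2 (by have := i.2; simp only [Fin.val_castSucc]; omega)

theorem vec_injective : Function.Injective vec := by
  intro a b hab
  obtain ⟨-, ha, -⟩ := listOf_lat (vec_spec a).1
  obtain ⟨-, hb, -⟩ := listOf_lat (vec_spec b).1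
  have e : colZ (cd a) = colZ (cd b) := by
    have h1 : Rep (vec a : GolayPt → ℤ) (cd a) := ha
    have h2 : Rep (vec a : GolayPt → ℤ) (cd b) := by rw [hab]; exact hb
    exact h1.symm.trans h2
  simp only [colZ] at e
  exact cd_strictMono.injective (Int.ofNat_inj.1 (sub_left_inj.1 e))

/-- The sets of vectors through a point. -/
def pset (p : Fin 280) : Set leechLattice := {x | ∃ i : Fin 112, Inc i p ∧ vec i = x}

theorem pset_injective : Function.Injective pset := by
  intro p p' he
  have h := allFrom_spec _ _ _ wit_ok p.1 (Nat.zero_le _) (by have := p.2; omega)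
  simp only [witOK, strict_eq, Bool.and_eq_true, Nat.blt_eq, Nat.beq_eq] at h
  obtain ⟨⟨ha, hb⟩, hm⟩ := h
  set a : Fin 112 := ⟨_, ha⟩
  set b : Fin 112 := ⟨_, hb⟩
  have hm' : mask a.1 &&& mask b.1 = 1 <<< p.1 := hm
  have hbit : (mask a.1 &&& mask b.1).testBit p.1 = true := by
    rw [hm', Nat.one_shiftLeft, Nat.testBit_two_pow]; simp
  rw [Nat.testBit_and, Bool.and_eq_true, testBit_mask, testBit_mask] at hbit
  have key : ∀ c : Fin 112, Inc c p → Inc c p' := fun c hc => by
    have hmem : vec c ∈ pset p := ⟨c, hc, rfl⟩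
    rw [he] at hmem
    obtain ⟨d, hd, hdc⟩ := hmem
    rwa [vec_injective hdc] at hd
  have h2 : (mask a.1 &&& mask b.1).testBit p'.1 = true := by
    rw [Nat.testBit_and, Bool.and_eq_true, testBit_mask, testBit_mask]
    exact ⟨key a hbit.1, key b hbit.2⟩
  rw [hm', Nat.one_shiftLeft, Nat.testBit_two_pow, decide_eq_true_eq] at h2
  exact Fin.ext h2

/-- The incidences. -/
def Flag : Type := {ip : Fin 112 × Fin 280 // Inc ip.1 ip.2}

/-- The permutation of the vectors coded in the certificate. -/
noncomputable def perm112 (j : Fin 2) : Equiv.Perm (Fin 112) :=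
  Comp.PermCode.val 112 (u43Gens.getD j.1 0)

theorem exists_gen (j : Fin 2) : ∃ g ∈ triStab ptU ptV ptX, (∀ i, g • vec i = vec (perm112 j i)) ∧
    ∀ p : Fin 280, g • pset p = pset (ρ (u j.succ) p) := by
  classical
  have hj := j.2
  have hg := allFrom_spec _ _ _ gen_ok j.1 (Nat.zero_le _) (by omega)
  simp only [genOK, Bool.and_eq_true, beq_iff_eq] at hg
  obtain ⟨⟨⟨hel, hc⟩, ⟨hU, hV⟩, hX⟩, hok⟩ := hg
  have hv := matEl_valid hel hc
  set g := matEl hel
  obtain ⟨c1, c2, -, -, c5⟩ := pt_checks
  have hfix : ∀ n, latB n = true → applyC (colsOf (mats.getD j.1 [])) n = 8 * colZ n →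
      g • lat n = lat n := fun n hn he => by
    obtain ⟨-, h2, h3⟩ := listOf_lat hn
    exact Subtype.ext (rep_inj (rep_smul hv h2 h3 he) h2 (by rw [sqNorm_smul]; exact h3) h3)
  refine ⟨g, ⟨⟨hfix _ c1 hU, hfix _ c2 hV⟩, hfix _ c5 hX⟩, ?_⟩
  have hi := allFrom_spec _ _ _ imgs_ok j.1 (Nat.zero_le _) (by omega)
  set π := ρ (u j.succ)
  have hπ : ∀ q, ((π q : Fin 280) : ℕ) = act hTable (j.1 + 1) q := fun q => by
    rw [ρ_u]; rfl
  have hs : ∀ i : Fin 112, g • vec i = vec (perm112 j i) ∧
      ∀ p : Fin 280, Inc i p → Inc (perm112 j i) (π p).1 := by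
    intro i
    have h := allFrom_spec _ _ _ hi i.1 (Nat.zero_le _) (by have := i.2; omega)
    simp only [imgOK, strict_eq, Bool.and_eq_true, Nat.blt_eq, Nat.beq_eq] at h
    obtain ⟨⟨⟨hlt, happ⟩, hget⟩, hm⟩ := h
    have hperm : perm112 j i = ⟨_, hlt⟩ :=
      Fin.ext ((Comp.PermCode.val_apply (Comp.PermCode.ok_of_okb hok) i).trans hget)
    rw [hperm]
    refine ⟨?_, ?_⟩
    · obtain ⟨-, h2, h3⟩ := listOf_lat (vec_spec i).1
      obtain ⟨-, h2', h3'⟩ := listOf_lat (vec_spec ⟨_, hlt⟩).1
      exact Subtype.ext (rep_inj (rep_smul hv h2 h3 (applyC_of_applyB happ)) h2'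
        (by rw [sqNorm_smul]; exact h3) h3')
    · rintro p ⟨k, hk, hkp⟩
      rw [hπ, ← testBit_mask, ← hkp]
      exact allFrom_spec _ _ _ hm k (Nat.zero_le _) (by omega)
  refine ⟨fun i => (hs i).1, ?_⟩
  set s := perm112 j
  haveI : Finite Flag := Subtype.finite
  let F : Flag → Flag := fun x => ⟨(s x.1.1, π x.1.2), (hs _).2 _ x.2⟩
  have hF : Function.Surjective F := Finite.surjective_of_injective fun x y e => by
    have e' := congrArg Subtype.val e
    simp only [F, Prod.mk.injEq] at e'
    exact Subtype.ext (Prod.ext (s.injective e'.1) (π.injective e'.2))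
  intro p
  ext x
  constructor
  · rintro ⟨_, ⟨i, hi', rfl⟩, rfl⟩
    exact ⟨s i, (hs i).2 p hi', ((hs i).1).symm⟩
  · rintro ⟨t, ht, rfl⟩
    obtain ⟨⟨⟨i, q⟩, hiq⟩, he⟩ := hF ⟨(t, π p), ht⟩
    have e' := congrArg Subtype.val he
    simp only [F, Prod.mk.injEq] at e'
    obtain rfl : q = p := π.injective e'.2
    exact ⟨vec i, ⟨i, hiq, rfl⟩, by show g • vec i = vec t; rw [(hs i).1, e'.1]⟩

/-- The elements fixing the three vectors and permuting the 112 vectors and the 280 sets. -/
noncomputable def grp : Subgroup Co0 :=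
  triStab ptU ptV ptX ⊓ MulAction.stabilizer Co0 (Set.range pset) ⊓
    MulAction.stabilizer Co0 (Set.range vec)

section act

variable {n : ℕ} {α : Type*} [MulAction Co0 α] (f : Fin n → α)

theorem exists_image {g : Co0} (hg : g • Set.range f = Set.range f) (p : Fin n) :
    ∃ p', g • f p = f p' := by
  have : g • f p ∈ g • Set.range f := Set.smul_mem_smul_set ⟨p, rfl⟩
  rw [hg] at this
  obtain ⟨p', hp'⟩ := this
  exact ⟨p', hp'.symm⟩

theorem mem_stab_range {g : Co0} {π : Equiv.Perm (Fin n)} (h : ∀ p, g • f p = f (π p)) :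
    g ∈ MulAction.stabilizer Co0 (Set.range f) := by
  show g • Set.range f = Set.range f
  refine Set.Subset.antisymm ?_ ?_
  · rintro _ ⟨_, ⟨p, rfl⟩, rfl⟩
    exact ⟨_, (h p).symm⟩
  · rintro _ ⟨p, rfl⟩
    obtain ⟨q, rfl⟩ := π.surjective p
    exact ⟨f q, ⟨q, rfl⟩, h q⟩

variable (H : Subgroup Co0) (hH : H ≤ MulAction.stabilizer Co0 (Set.range f))

/-- The image of a member of an invariant family. -/
noncomputable def imgOf (g : H) (p : Fin n) : Fin n := (exists_image f (hH g.2) p).choose

theorem imgOf_spec (g : H) (p : Fin n) : (g : Co0) • f p = f (imgOf f H hH g p) :=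
  (exists_image f (hH g.2) p).choose_spec

variable (hf : Function.Injective f)
include hf

theorem imgOf_one (p : Fin n) : imgOf f H hH 1 p = p := hf (by rw [← imgOf_spec f H hH]; simp)

theorem imgOf_mul (g h : H) (p : Fin n) :
    imgOf f H hH (g * h) p = imgOf f H hH g (imgOf f H hH h p) :=
  hf (by rw [← imgOf_spec f H hH, ← imgOf_spec f H hH, ← imgOf_spec f H hH, Subgroup.coe_mul, mul_smul])

/-- The permutation representation on the members of an invariant family. -/
noncomputable def actHom : H →* Equiv.Perm (Fin n) :=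
  MonoidHom.mk' (fun g => ⟨imgOf f H hH g, imgOf f H hH g⁻¹,
      fun k => by rw [← imgOf_mul f H hH hf, inv_mul_cancel, imgOf_one f H hH hf],
      fun k => by rw [← imgOf_mul f H hH hf, mul_inv_cancel, imgOf_one f H hH hf]⟩)
    fun g h => Equiv.ext (imgOf_mul f H hH hf g h)

theorem actHom_spec (g : H) (p : Fin n) : (g : Co0) • f p = f (actHom f H hH hf g p) :=
  imgOf_spec f H hH g p

end act

/-- The action on the points. -/
noncomputable def act280 : grp →* Equiv.Perm (Fin 280) :=
  actHom pset grp (inf_le_left.trans inf_le_right) pset_injective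

/-- The action on the vectors. -/
noncomputable def act112 : grp →* Equiv.Perm (Fin 112) :=
  actHom vec grp inf_le_right vec_injective

theorem exists_act (j : Fin 2) : ∃ g : grp, act112 g = perm112 j ∧ act280 g = ρ (u j.succ) := by
  obtain ⟨g, h1, h2, h3⟩ := exists_gen j
  have hmem : g ∈ grp := ⟨⟨h1, mem_stab_range pset h3⟩, mem_stab_range vec h2⟩
  exact ⟨⟨g, hmem⟩,
    Equiv.ext fun i => vec_injective ((actHom_spec vec _ _ _ ⟨g, hmem⟩ i).symm.trans (h2 i)),
    Equiv.ext fun p => pset_injective ((actHom_spec pset _ _ _ ⟨g, hmem⟩ p).symm.trans (h3 p))⟩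

theorem card_tri : Nat.card (triStab ptU ptV ptX) = 3265920 := by
  obtain ⟨hu, hv, -, -, hx, hvu, -, hxu, hxv, -, -⟩ := pt_dots
  have hvs := (norm_sub_iff hu hv).2 hvu
  have h := card_pairStab_mul ptU ptV
    (S := {y : leechLattice | sqNorm (y : GolayPt → ℤ) = 32 ∧
      sqNorm ((ptU : GolayPt → ℤ) - (y : GolayPt → ℤ)) = 32})
    (fun g hg y hy => ⟨(sqNorm_smul g y).trans hy.1, by
      have e := (norm_sub_iff hu hy.1).1 hy.2
      rw [norm_sub_iff hu ((sqNorm_smul g y).trans hy.1)]
      conv_lhs => rw [← hg, dotInt_smul]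
      exact e⟩)
    ⟨hv, hvs⟩
    (fun y hy => transitive_summands hu hv hvu hy.1 ((norm_sub_iff hu hy.1).1 hy.2))
  rw [ncard_summands ptU hu, card_stabilizer48 hu] at h
  have hP : Nat.card (pairStab ptU ptV) = 898128000 :=
    Nat.eq_of_mul_eq_mul_right (show 0 < 552 by norm_num) (h.trans (by norm_num))
  obtain ⟨hcard, htr⟩ := mcl_transitive hu ⟨hv, hvs⟩
  have hxm : ptX ∈ mclSet ptU ptV :=
    ⟨hx, (norm_sub_iff hu hx).2 hxu, (dot_comm _ _).trans hxv⟩
  have horb : MulAction.orbit (pairStab ptU ptV) ptX = mclSet ptU ptV := by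
    ext y
    constructor
    · rintro ⟨⟨g, hg⟩, rfl⟩
      obtain ⟨hg1, hg2⟩ : g • ptU = ptU ∧ g • ptV = ptV := hg
      refine show g • ptX ∈ mclSet ptU ptV from ⟨(sqNorm_smul g ptX).trans hx, ?_, ?_⟩
      · rw [norm_sub_iff hu ((sqNorm_smul g ptX).trans hx)]
        conv_lhs => rw [← hg1]
        exact (dotInt_smul g _ _).trans hxu
      · conv_lhs => rw [← hg2]
        exact (dotInt_smul g _ _).trans hxm.2.2
    · intro hy
      obtain ⟨g, h1, h2, h3⟩ := htr _ hxm y hy
      exact ⟨⟨g, h1, h2⟩, h3⟩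
  have hst : MulAction.stabilizer (pairStab ptU ptV) ptX =
      (triStab ptU ptV ptX).subgroupOf (pairStab ptU ptV) := by
    ext g
    exact ⟨fun h => ⟨g.2, h⟩, fun h => h.2⟩
  have h2 := Subgroup.card_mul_index (MulAction.stabilizer (pairStab ptU ptV) ptX)
  rw [MulAction.index_stabilizer, horb, hcard, hP, hst, Nat.card_congr (Subgroup.subgroupOfEquivOfLe
    (show triStab ptU ptV ptX ≤ pairStab ptU ptV from inf_le_left)).toEquiv] at h2
  exact Nat.eq_of_mul_eq_mul_right (show 0 < 275 by norm_num) (h2.trans (by norm_num))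

theorem nonempty_equiv : Nonempty (triStab ptU ptV ptX ≃* Cfsg.PSU 4 K9 3) := by
  classical
  haveI : Finite (triStab ptU ptV ptX) :=
    Nat.finite_of_card_ne_zero (by rw [card_tri]; norm_num)
  have hle : grp ≤ triStab ptU ptV ptX := inf_le_left.trans inf_le_left
  haveI : Finite grp := Finite.of_injective _ (Subgroup.inclusion_injective hle)
  have hgrp : Nat.card grp ≤ 3265920 := by
    rw [← card_tri]; exact Nat.card_le_card_of_injective _ (Subgroup.inclusion_injective hle)
  choose gen hgen112 hgen280 using exists_act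
  set H := Subgroup.closure (Set.range gen) with hH
  have hspan : Comp.PermCode.span 112 u43Gens ≤ H.map act112 := by
    rw [Comp.PermCode.span, Subgroup.closure_le]
    rintro _ ⟨s, hs, rfl⟩
    obtain ⟨k, hk, rfl⟩ := List.getElem_of_mem hs
    have hk2 : k < 2 := hk
    refine ⟨gen ⟨k, hk2⟩, Subgroup.subset_closure ⟨_, rfl⟩, (hgen112 _).trans ?_⟩
    simp only [perm112, List.getD_eq_getElem _ _ hk]
  have hbig : 3265920 ≤ Nat.card (H.map act112) :=
    u43_card.symm.le.trans (Nat.card_le_card_of_injective _ (Subgroup.inclusion_injective hspan))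
  have hmapH : Nat.card (H.map act112) ≤ Nat.card H :=
    Nat.card_le_card_of_surjective _ (act112.subgroupMap_surjective H)
  have hHg : Nat.card H ≤ Nat.card grp := Subgroup.card_le_card_group H
  have hH' : H = ⊤ := Subgroup.eq_top_of_le_card _ (hgrp.trans (hbig.trans hmapH))
  have hrange : Nat.card act112.range = Nat.card grp := by
    refine le_antisymm (Nat.card_le_card_of_surjective _ act112.rangeRestrict_surjective) ?_
    rw [MonoidHom.range_eq_map, ← hH']
    exact hgrp.trans hbig
  have hinj : Function.Injective act112 := by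
    have hb : Function.Bijective act112.rangeRestrict :=
      (Nat.bijective_iff_surjective_and_card _).2 ⟨act112.rangeRestrict_surjective, hrange.symm⟩
    exact fun a b e => hb.1 (Subtype.ext e)
  have hcard : Nat.card grp = 3265920 := le_antisymm hgrp (hbig.trans (hmapH.trans hHg))
  have heq : grp = triStab ptU ptV ptX :=
    Subgroup.eq_of_le_of_card_ge hle (by rw [card_tri, hcard])
  have hinj280 : Function.Injective act280 := by
    rw [injective_iff_map_eq_one]
    intro g hg
    apply hinj
    rw [map_one]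
    refine Equiv.ext fun i => ?_
    set i' := act112 g i
    have hsub : ∀ p : Fin 280, Inc i p → Inc i' p := fun p hp => by
      have hmem : (g : Co0) • vec i ∈ (g : Co0) • pset p := Set.smul_mem_smul_set ⟨i, hp, rfl⟩
      rw [actHom_spec vec grp inf_le_right vec_injective g i,
        actHom_spec pset grp (inf_le_left.trans inf_le_right) pset_injective g p] at hmem
      obtain ⟨d, hd, hdi⟩ := hmem
      have hp' : actHom pset grp (inf_le_left.trans inf_le_right) pset_injective g p = p := by
        show act280 g p = p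
        rw [hg]; rfl
      rw [hp', vec_injective hdi] at hd
      exact hd
    have h := allFrom_spec _ _ _ sep_ok i.1 (Nat.zero_le _) (by have := i.2; omega)
    simp only [sepOK, strict_eq] at h
    have h' := allFrom_spec _ _ _ h i'.1 (Nat.zero_le _) (by have := i'.2; omega)
    have hland : Nat.beq (Nat.land (mask i.1) (mask i'.1)) (mask i.1) = true := by
      rw [Nat.beq_eq]
      show mask i.1 &&& mask i'.1 = mask i.1
      refine Nat.eq_of_testBit_eq fun k => ?_
      rw [Nat.testBit_and]
      cases hk : (mask i.1).testBit k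
      · rfl
      · obtain ⟨m, hm, rfl⟩ := (testBit_mask _ _).1 hk
        have := (testBit_mask _ _).2 (hsub ⟨_, (vec_spec i).2.1 m hm⟩ ⟨m, hm, rfl⟩)
        simpa using this
    rw [hland] at h'
    simp only [Bool.not_true, Bool.or_false, Nat.beq_eq] at h'
    exact Fin.ext h'
  have hle280 : act280.range ≤ ρ.range := by
    rw [MonoidHom.range_eq_map, ← hH', MonoidHom.map_closure, Subgroup.closure_le]
    rintro _ ⟨_, ⟨j, rfl⟩, rfl⟩
    exact ⟨_, (hgen280 j).symm⟩
  have hr : act280.range = ρ.range := by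
    refine Subgroup.eq_of_le_of_card_ge hle280 (card_range_le.trans (le_of_eq ?_))
    rw [← hcard]
    exact Nat.card_congr (MonoidHom.ofInjective hinj280).toEquiv
  have hbar : Function.Injective ρbar := by
    haveI : Finite (Cfsg.PSU 4 K9 3) := Nat.finite_of_card_ne_zero (by rw [card_PSU]; norm_num)
    have hb : Function.Bijective ρbar.rangeRestrict :=
      (Nat.bijective_iff_surjective_and_card _).2 ⟨ρbar.rangeRestrict_surjective, by
        rw [card_PSU, range_ρbar, ← hr, ← Nat.card_congr (MonoidHom.ofInjective hinj280).toEquiv,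
          hcard]⟩
    exact fun a b e => hb.1 (Subtype.ext e)
  have hr' : act280.range = ρbar.range := hr.trans range_ρbar.symm
  exact ⟨((MulEquiv.subgroupCongr heq.symm).trans (MonoidHom.ofInjective hinj280)).trans
    ((MulEquiv.subgroupCongr hr').trans (MonoidHom.ofInjective hbar).symm)⟩

theorem nonempty_triStab_equiv {a b c a' b' c' : leechLattice} {g : Co0} (ha : g • a = a')
    (hb : g • b = b') (hc : g • c = c') : Nonempty (triStab a b c ≃* triStab a' b' c') := by
  refine ⟨MulEquiv.trans ((triStab a b c).equivMapOfInjective (MulAut.conj g).toMonoidHom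
    (MulAut.conj g).injective) (MulEquiv.subgroupCongr ?_)⟩
  ext x
  rw [Subgroup.mem_map_equiv, MulAut.conj_symm_apply]
  subst ha hb hc
  have key : ∀ z : leechLattice, (g⁻¹ * x * g) • z = z ↔ x • g • z = g • z := fun z => by
    rw [mul_smul, mul_smul, inv_smul_eq_iff]
  exact and_congr (and_congr (key a) (key b)) (key c)

end CfsgLib.Leech.Triangle.U43
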