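import Cfsg.Agent.Lib.Leech.Triangle.MatEl
import Cfsg.Agent.Lib.Leech.Triangle.U43Data
import Cfsg.Agent.Lib.Leech.Triangle.U43Cert
import Cfsg.Agent.Lib.CosetEnum.Perm

/-! Kernel checks of the data for the stabiliser of a point of the configuration of 275. -/

set_option autoImplicit false

namespace CfsgLib.Leech.Triangle.U43

open Cfsg CfsgLib CfsgLib.Leech CfsgLib.Leech.Stab CfsgLib.CosetEnum

/-- Packed value of a vector. -/
noncomputable def cd (i : ℕ) : ℕ := vecT.get 120 i

/-- An incident point. -/
noncomputable def inc (i k : ℕ) : ℕ := (incT.get 100 i >>> (10 * k)) &&& 1023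

/-- Image of a vector. -/
noncomputable def sig (j i : ℕ) : ℕ := (sigTs.getD j (.leaf 0)).get 20 i

/-- Mask of the incident points among the first `k`. -/
noncomputable def maskK (i : ℕ) : ℕ → ℕ
  | 0 => 0
  | k + 1 => Nat.lor (maskK i k) (Nat.shiftLeft 1 (inc i k))

/-- The mask of incident points. -/
noncomputable def mask (i : ℕ) : ℕ := maskK i 10

/-- Incidence. -/
def Inc (i p : ℕ) : Prop := ∃ k < 10, inc i k = p

theorem testBit_maskK (i p : ℕ) : ∀ k, (maskK i k).testBit p = true ↔ ∃ m < k, inc i m = p
  | 0 => by simp [maskK]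
  | k + 1 => by
    rw [maskK, show Nat.lor (maskK i k) (Nat.shiftLeft 1 (inc i k)) = maskK i k ||| 1 <<< inc i k from rfl,
      Nat.testBit_or, Bool.or_eq_true, testBit_maskK i p k, Nat.one_shiftLeft, Nat.testBit_two_pow,
      decide_eq_true_eq]
    constructor
    · rintro (⟨m, hm, he⟩ | he)
      · exact ⟨m, by omega, he⟩
      · exact ⟨k, by omega, he⟩
    · rintro ⟨m, hm, he⟩
      rcases Nat.lt_succ_iff_lt_or_eq.1 hm with hm | rfl
      · exact Or.inl ⟨m, hm, he⟩
      · exact Or.inr he

theorem testBit_mask (i p : ℕ) : (mask i).testBit p = true ↔ Inc i p := testBit_maskK i p 10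

/-- Code of the base vector of squared length 48. -/
def codeU : ℕ := 477021337197006099550156565987704303
/-- Code of its summand. -/
def codeV : ℕ := 519899659641680805127698729222554124
/-- Code of the fixed point. -/
def codeX : ℕ := 519899659641676082761215859577340432

/-- Checks on a vector. -/
noncomputable def vecOK (i : ℕ) : Bool :=
  latB (cd i) && allFrom (fun k => Nat.blt (inc i k) 280) 10 0 &&
    (Nat.beq (i + 1) 112 || Nat.blt (cd i) (cd (i + 1)))

/-- Checks on the image of a vector. -/
noncomputable def imgOK (j : ℕ) (cols : List ℕ) (i : ℕ) : Bool :=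
  strict (sig j i) fun s => Nat.blt s 112 && applyB cols (cd i) (cd s) &&
    Nat.beq (Comp.PermCode.get (u43Gens.getD j 0) i) s &&
    strict (mask s) fun m => allFrom (fun k => m.testBit (act hTable (j + 1) (inc i k))) 10 0

/-- Check of one matrix. -/
noncomputable def genOK (j : ℕ) : Bool :=
  (fun A T => elB A T && colsB A && (fun cols => applyC cols codeU == 8 * colZ codeU &&
      applyC cols codeV == 8 * colZ codeV && applyC cols codeX == 8 * colZ codeX) (colsOf A))
    (mats.getD j []) (matsT.getD j []) && Comp.PermCode.okb 112 (u43Gens.getD j 0)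

/-- Check of a separating pair. -/
noncomputable def witOK (p : ℕ) : Bool :=
  strict (witT.get 20 p) fun w => strict (w &&& 1023) fun a => strict (w >>> 10) fun b =>
    Nat.blt a 112 && Nat.blt b 112 && Nat.beq (Nat.land (mask a) (mask b)) (Nat.shiftLeft 1 p)

/-- The incidences of distinct vectors are not nested. -/
noncomputable def sepOK (i : ℕ) : Bool :=
  strict (mask i) fun m => allFrom (fun i' => Nat.beq i' i || !(Nat.beq (Nat.land m (mask i')) m)) 112 0

theorem sep_ok : allFrom sepOK 112 0 = true := by decide +kernel

theorem vec_ok : allFrom vecOK 112 0 = true := by decide +kernel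

theorem gen_ok : allFrom genOK 2 0 = true := by decide +kernel

theorem wit_ok : allFrom witOK 280 0 = true := by decide +kernel

/-- Check of all images under one matrix. -/
noncomputable def imgsOK (j : ℕ) : Bool :=
  (fun cols => allFrom (imgOK j cols) 112 0) (colsOf (mats.getD j []))

theorem imgs_ok : allFrom imgsOK 2 0 = true := by decide +kernel

end CfsgLib.Leech.Triangle.U43
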