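import Cfsg.Agent.Lib.Leech.Triangle.U6Checks
import Cfsg.Agent.Lib.Leech.Simple.Pairs
import Cfsg.Agent.Lib.Leech.Stab.Co2Orbits
import Cfsg.Agent.Lib.CosetEnum.Fi22U6.Model

/-!
The joint stabiliser of two minimal vectors of scalar product -16 acts on 693 sets of minimal vectors as
`PSU₆(2)` acts on the isotropic points.
-/

set_option autoImplicit false

namespace CfsgLib.Leech.Triangle.U6

open Cfsg CfsgLib CfsgLib.Leech CfsgLib.Leech.Stab CfsgLib.CosetEnum
open CfsgLib.CosetEnum.Fi22U6 (hTable)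
open scoped Pointwise

/-- The first fixed vector. -/
noncomputable def vP : leechLattice := lat codeP

/-- The second fixed vector. -/
noncomputable def vW : leechLattice := lat codeW

theorem base_facts : sqNorm (vP : GolayPt → ℤ) = 32 ∧ sqNorm (vW : GolayPt → ℤ) = 32 ∧
    dotInt (vP : GolayPt → ℤ) (vW : GolayPt → ℤ) = -16 := by
  have h := base_ok
  simp only [baseOK, Bool.and_eq_true, beq_iff_eq] at h
  obtain ⟨⟨⟨⟨h1, h2⟩, h3⟩, h4⟩, h5⟩ := h
  simp only [← dotInt_self, vP, vW, dot_lat, h1, h2]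
  exact ⟨h3, h4, h5⟩

/-- The vector with a number. -/
noncomputable def vec (i : Fin 891) : leechLattice := lat (cd i)

theorem vec_spec (i : Fin 891) : latB (cd i) = true ∧ (∀ k < 21, inc i k < 693) ∧
    (i.1 + 1 ≠ 891 → cd i < cd (i.1 + 1)) := by
  have h := allFrom_spec _ _ _ vec_ok i.1 (Nat.zero_le _) (by have := i.2; omega)
  simp only [vecOK, Bool.and_eq_true, Bool.or_eq_true, Nat.beq_eq, Nat.blt_eq] at h
  exact ⟨h.1.1, fun k hk => Nat.le_of_ble_eq_true
    (allFrom_spec _ _ _ h.1.2 k (Nat.zero_le _) (by omega)), fun hne => h.2.resolve_left hne⟩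

theorem cd_strictMono : StrictMono fun i : Fin 891 => cd i := by
  refine Fin.strictMono_iff_lt_succ.2 fun i => ?_
  exact (vec_spec i.castSucc).2.2 (by have := i.2; simp only [Fin.val_castSucc]; omega)

theorem vec_injective : Function.Injective vec := by
  intro a b hab
  obtain ⟨-, ha, -⟩ := listOf_lat (vec_spec a).1
  obtain ⟨-, hb, -⟩ := listOf_lat (vec_spec b).1
  have e : colZ (cd a) = colZ (cd b) := by
    have h1 : Rep (vec a : GolayPt → ℤ) (cd a) := ha
    have h2 : Rep (vec a : GolayPt → ℤ) (cd b) := by rw [hab]; exact hb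
    exact h1.symm.trans h2
  simp only [colZ] at e
  exact cd_strictMono.injective (Int.ofNat_inj.1 (sub_left_inj.1 e))

/-- The sets of vectors through a point. -/
def pset (p : Fin 693) : Set leechLattice := {x | ∃ i : Fin 891, Inc i p ∧ vec i = x}

theorem pset_injective : Function.Injective pset := by
  intro p p' he
  have h := allFrom_spec _ _ _ wit_ok p.1 (Nat.zero_le _) (by have := p.2; omega)
  simp only [witOK, strict_eq, Bool.and_eq_true, Nat.blt_eq, Nat.beq_eq] at h
  obtain ⟨⟨ha, hb⟩, hm⟩ := h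
  set a : Fin 891 := ⟨_, ha⟩
  set b : Fin 891 := ⟨_, hb⟩
  have hm' : mask a.1 &&& mask b.1 = 1 <<< p.1 := hm
  have hbit : (mask a.1 &&& mask b.1).testBit p.1 = true := by
    rw [hm', Nat.one_shiftLeft, Nat.testBit_two_pow]; simp
  rw [Nat.testBit_and, Bool.and_eq_true, testBit_mask, testBit_mask] at hbit
  have key : ∀ c : Fin 891, Inc c p → Inc c p' := fun c hc => by
    have hmem : vec c ∈ pset p := ⟨c, hc, rfl⟩
    rw [he] at hmem
    obtain ⟨d, hd, hdc⟩ := hmem
    rwa [vec_injective hdc] at hd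
  have h2 : (mask a.1 &&& mask b.1).testBit p'.1 = true := by
    rw [Nat.testBit_and, Bool.and_eq_true, testBit_mask, testBit_mask]
    exact ⟨key a hbit.1, key b hbit.2⟩
  rw [hm', Nat.one_shiftLeft, Nat.testBit_two_pow, decide_eq_true_eq] at h2
  exact Fin.ext h2

/-- The incidences. -/
def Flag : Type := {ip : Fin 891 × Fin 693 // Inc ip.1 ip.2}

theorem exists_gen (j : Fin 10) : ∃ g : Co0, g • vP = vP ∧ g • vW = vW ∧ ∀ p : Fin 693,
    g • pset p = pset (Fi22U6.ρ (Fi22U6.u j) p) := by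
  classical
  have hj := j.2
  have hg := allFrom_spec _ _ _ gen_ok j.1 (Nat.zero_le _) (by omega)
  simp only [genOK, Bool.and_eq_true, beq_iff_eq] at hg
  obtain ⟨⟨hel, hc⟩, hP, hW⟩ := hg
  have hv := matEl_valid hel hc
  set g := matEl hel
  have hb := base_ok
  simp only [baseOK, Bool.and_eq_true, beq_iff_eq] at hb
  have hfix : ∀ n, latB n = true → applyC (colsOf (mats.getD j.1 [])) n = 8 * colZ n →
      g • lat n = lat n := fun n hn he => by
    obtain ⟨-, h2, h3⟩ := listOf_lat hn
    exact Subtype.ext (rep_inj (rep_smul hv h2 h3 he) h2 (by rw [sqNorm_smul]; exact h3) h3)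
  refine ⟨g, hfix _ hb.1.1.1.1 hP, hfix _ hb.1.1.1.2 hW, ?_⟩
  have hi := allFrom_spec _ _ _ imgs_ok j.1 (Nat.zero_le _) (by omega)
  have hs : ∀ i : Fin 891, ∃ s : Fin 891, g • vec i = vec s ∧
      ∀ p : Fin 693, Inc i p → Inc s (Fi22U6.ρ (Fi22U6.u j) p).1 := by
    intro i
    have h := allFrom_spec _ _ _ hi i.1 (Nat.zero_le _) (by have := i.2; omega)
    simp only [imgOK, strict_eq, Bool.and_eq_true, Nat.blt_eq] at h
    obtain ⟨⟨hlt, happ⟩, hm⟩ := h
    refine ⟨⟨_, hlt⟩, ?_, ?_⟩
    · obtain ⟨-, h2, h3⟩ := listOf_lat (vec_spec i).1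
      obtain ⟨-, h2', h3'⟩ := listOf_lat (vec_spec ⟨_, hlt⟩).1
      exact Subtype.ext (rep_inj (rep_smul hv h2 h3 (applyC_of_applyB happ)) h2'
        (by rw [sqNorm_smul]; exact h3) h3')
    · rintro p ⟨k, hk, hkp⟩
      rw [Fi22U6.ρ_u, ← testBit_mask, ← hkp]
      exact allFrom_spec _ _ _ hm k (Nat.zero_le _) (by omega)
  choose s hs1 hs2 using hs
  have hsinj : Function.Injective s := fun a b e => by
    apply vec_injective
    apply MulAction.injective g
    show g • vec a = g • vec b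
    rw [hs1, hs1, e]
  set π := Fi22U6.ρ (Fi22U6.u j)
  haveI : Finite Flag := Subtype.finite
  let F : Flag → Flag := fun x => ⟨(s x.1.1, π x.1.2), hs2 _ _ x.2⟩
  have hF : Function.Surjective F := Finite.surjective_of_injective fun x y e => by
    have e' := congrArg Subtype.val e
    simp only [F, Prod.mk.injEq] at e'
    exact Subtype.ext (Prod.ext (hsinj e'.1) (π.injective e'.2))
  intro p
  ext x
  constructor
  · rintro ⟨_, ⟨i, hi', rfl⟩, rfl⟩
    exact ⟨s i, hs2 i p hi', (hs1 i).symm⟩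
  · rintro ⟨t, ht, rfl⟩
    obtain ⟨⟨⟨i, q⟩, hiq⟩, he⟩ := hF ⟨(t, π p), ht⟩
    have e' := congrArg Subtype.val he
    simp only [F, Prod.mk.injEq] at e'
    obtain rfl : q = p := π.injective e'.2
    exact ⟨vec i, ⟨i, hiq, rfl⟩, by show g • vec i = vec t; rw [hs1, e'.1]⟩

/-- The elements fixing both vectors and permuting the sets. -/
noncomputable def grp : Subgroup Co0 :=
  pairStab vP vW ⊓ MulAction.stabilizer Co0 (Set.range pset)

theorem exists_image (g : grp) (p : Fin 693) : ∃ p', (g : Co0) • pset p = pset p' := by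
  have h : (g : Co0) • Set.range pset = Set.range pset := g.2.2
  have : (g : Co0) • pset p ∈ (g : Co0) • Set.range pset := Set.smul_mem_smul_set ⟨p, rfl⟩
  rw [h] at this
  obtain ⟨p', hp'⟩ := this
  exact ⟨p', hp'.symm⟩

/-- The image of a point. -/
noncomputable def img (g : grp) (p : Fin 693) : Fin 693 := (exists_image g p).choose

theorem img_spec (g : grp) (p : Fin 693) : (g : Co0) • pset p = pset (img g p) :=
  (exists_image g p).choose_spec

theorem img_one (p : Fin 693) : img 1 p = p := pset_injective (by rw [← img_spec]; simp)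

theorem img_mul (g h : grp) (p : Fin 693) : img (g * h) p = img g (img h p) :=
  pset_injective (by rw [← img_spec, ← img_spec, ← img_spec, Subgroup.coe_mul, mul_smul])

/-- The action on the points. -/
noncomputable def act693 : grp →* Equiv.Perm (Fin 693) :=
  MonoidHom.mk' (fun g => ⟨img g, img g⁻¹,
      fun k => by rw [← img_mul, inv_mul_cancel, img_one],
      fun k => by rw [← img_mul, mul_inv_cancel, img_one]⟩)
    fun g h => Equiv.ext (img_mul g h)

theorem exists_act (j : Fin 10) : ∃ g : grp, act693 g = Fi22U6.ρ (Fi22U6.u j) := by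
  obtain ⟨g, h1, h2, h3⟩ := exists_gen j
  have hmem : g ∈ grp := by
    refine ⟨⟨h1, h2⟩, ?_⟩
    show g • Set.range pset = Set.range pset
    refine Set.Subset.antisymm ?_ ?_
    · rintro _ ⟨_, ⟨p, rfl⟩, rfl⟩
      exact ⟨_, (h3 p).symm⟩
    · rintro _ ⟨p, rfl⟩
      obtain ⟨q, rfl⟩ := (Fi22U6.ρ (Fi22U6.u j)).surjective p
      exact ⟨pset q, ⟨q, rfl⟩, h3 q⟩
  exact ⟨⟨g, hmem⟩, Equiv.ext fun p => pset_injective ((img_spec ⟨g, hmem⟩ p).symm.trans (h3 p))⟩

theorem card_pair : Nat.card (pairStab vP vW) = 9196830720 := by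
  obtain ⟨h1, h2, h3⟩ := base_facts
  have h := card_pairStab_mul vP vW (S := dotSet vP (-16))
    (fun g hg x hx => ⟨(sqNorm_smul g x).trans hx.1, by rw [← hg, dotInt_smul]; exact hx.2⟩)
    ⟨h2, h3⟩ (fun x hx => transitive_dot_sixteen h1 h2 hx.1 h3 hx.2)
  rw [(census vP h1).1, card_stabilizer32 h1] at h
  exact Nat.eq_of_mul_eq_mul_right (show 0 < 4600 by norm_num) (h.trans (by norm_num))

theorem nonempty_equiv : Nonempty (pairStab vP vW ≃* Cfsg.PSU 6 Fi22U6.F4 2) := by
  classical
  haveI : Finite (pairStab vP vW) := Nat.finite_of_card_ne_zero (by rw [card_pair]; norm_num)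
  haveI : Finite grp := Finite.of_injective _ (Subgroup.inclusion_injective (inf_le_left :
    grp ≤ pairStab vP vW))
  set R := act693.range ⊓ Fi22U6.ρ.range with hR
  have hbig : 9196830720 ≤ Nat.card R := by
    refine Fi22U6.Base.lower (Equiv.Perm (Fin 693)) inferInstance (MonoidHom.id _) R inferInstance ?_
    intro j hj
    have hj : j < 10 := hj
    exact ⟨Fi22U6.ρ (Fi22U6.u ⟨j, hj⟩), ⟨exists_act ⟨j, hj⟩, _, rfl⟩, Fi22U6.ρ_u ⟨j, hj⟩⟩
  have hgrp : Nat.card grp ≤ 9196830720 := by
    rw [← card_pair]; exact Nat.card_le_card_of_injective _ (Subgroup.inclusion_injective inf_le_left)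
  have hρ : Nat.card Fi22U6.ρ.range ≤ 9196830720 := by
    rw [← Fi22U6.card_PSU]
    refine Nat.card_le_card_of_surjective (fun x => ⟨Fi22U6.ρbar x, ?_⟩) ?_
    · obtain ⟨A, rfl⟩ := QuotientGroup.mk_surjective x
      exact ⟨A, rfl⟩
    · rintro ⟨_, A, rfl⟩
      exact ⟨QuotientGroup.mk A, rfl⟩
  have hact : Nat.card act693.range ≤ Nat.card grp :=
    Nat.card_le_card_of_surjective _ act693.rangeRestrict_surjective
  have e1 : R = act693.range :=
    Subgroup.eq_of_le_of_card_ge inf_le_left (hact.trans (hgrp.trans hbig))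
  have e2 : R = Fi22U6.ρ.range := Subgroup.eq_of_le_of_card_ge inf_le_right (hρ.trans hbig)
  have hinj : Function.Injective act693 := by
    have hb : Function.Bijective act693.rangeRestrict :=
      (Nat.bijective_iff_surjective_and_card _).2 ⟨act693.rangeRestrict_surjective,
        le_antisymm (hgrp.trans (hbig.trans (le_of_eq (by rw [e1])))) hact⟩
    exact fun a b e => hb.1 (Subtype.ext e)
  have heq : grp = pairStab vP vW :=
    Subgroup.eq_of_le_of_card_ge inf_le_left (by
      rw [card_pair]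
      exact hbig.trans ((le_of_eq (by rw [e1])).trans hact))
  have hr : Fi22U6.ρbar.range = act693.range := by
    rw [← e1, e2]
    ext x
    constructor
    · rintro ⟨y, rfl⟩
      obtain ⟨A, rfl⟩ := QuotientGroup.mk_surjective y
      exact ⟨A, rfl⟩
    · rintro ⟨A, rfl⟩
      exact ⟨QuotientGroup.mk A, rfl⟩
  exact ⟨((MulEquiv.subgroupCongr heq.symm).trans (MonoidHom.ofInjective hinj)).trans
    ((MulEquiv.subgroupCongr hr.symm).trans (MonoidHom.ofInjective Fi22U6.ρbar_injective).symm)⟩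

end CfsgLib.Leech.Triangle.U6
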