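import Cfsg.Agent.Lib.Leech.Triangle.MatEl
import Cfsg.Agent.Lib.Leech.Triangle.U6Data
import Cfsg.Agent.Lib.CosetEnum.Fi22U6.Data
import Cfsg.Agent.Lib.CosetEnum.Perm

/-! Kernel checks of the data for the stabiliser of two minimal vectors of scalar product -16. -/

set_option autoImplicit false

namespace CfsgLib.Leech.Triangle.U6

open Cfsg CfsgLib CfsgLib.Leech CfsgLib.Leech.Stab CfsgLib.CosetEnum
open CfsgLib.CosetEnum.Fi22U6 (hTable)

/-- Packed value of a vector. -/
noncomputable def cd (i : ℕ) : ℕ := vecT.get 120 i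

/-- An incident point. -/
noncomputable def inc (i k : ℕ) : ℕ := (incT.get 210 i >>> (10 * k)) &&& 1023

/-- Image of a vector. -/
noncomputable def sig (j i : ℕ) : ℕ := (sigTs.getD j (.leaf 0)).get 20 i

/-- Mask of the incident points among the first `k`. -/
noncomputable def maskK (i : ℕ) : ℕ → ℕ
  | 0 => 0
  | k + 1 => Nat.lor (maskK i k) (Nat.shiftLeft 1 (inc i k))

/-- The mask of incident points. -/
noncomputable def mask (i : ℕ) : ℕ := maskK i 21

/-- Incidence. -/
def Inc (i p : ℕ) : Prop := ∃ k < 21, inc i k = p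

theorem testBit_maskK (i p : ℕ) : ∀ k, (maskK i k).testBit p = true ↔ ∃ m < k, inc i m = p
  | 0 => by simp [maskK]
  | k + 1 => by
    rw [maskK, show Nat.lor (maskK i k) (Nat.shiftLeft 1 (inc i k)) = maskK i k ||| 1 <<< inc i k from rfl,
      Nat.testBit_or, Bool.or_eq_true, testBit_maskK i p k, Nat.one_shiftLeft, Nat.testBit_two_pow,
      decide_eq_true_eq]
    constructor
    · rintro (⟨m, hm, he⟩ | he)
      · exact ⟨m, by omega, he⟩
      · exact ⟨k, by omega, he⟩
    · rintro ⟨m, hm, he⟩
      rcases Nat.lt_succ_iff_lt_or_eq.1 hm with hm | rfl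
      · exact Or.inl ⟨m, hm, he⟩
      · exact Or.inr he

theorem testBit_mask (i p : ℕ) : (mask i).testBit p = true ↔ Inc i p := testBit_maskK i p 21

/-- The two fixed vectors are right. -/
def baseOK : Bool :=
  latB codeP && latB codeW && dotZ (dig 24 codeP) (dig 24 codeP) == 32 &&
    dotZ (dig 24 codeW) (dig 24 codeW) == 32 && dotZ (dig 24 codeP) (dig 24 codeW) == -16

/-- Checks on a vector. -/
noncomputable def vecOK (i : ℕ) : Bool :=
  latB (cd i) && allFrom (fun k => Nat.blt (inc i k) 693) 21 0 &&
    (Nat.beq (i + 1) 891 || Nat.blt (cd i) (cd (i + 1)))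

/-- Checks on the image of a vector. -/
noncomputable def imgOK (j : ℕ) (cols : List ℕ) (i : ℕ) : Bool :=
  strict (sig j i) fun s => Nat.blt s 891 && applyB cols (cd i) (cd s) &&
    strict (mask s) fun m => allFrom (fun k => m.testBit (act hTable j (inc i k))) 21 0

/-- Check of one matrix. -/
noncomputable def genOK (j : ℕ) : Bool :=
  (fun A T => elB A T && colsB A && (fun cols => applyC cols codeP == 8 * colZ codeP &&
      applyC cols codeW == 8 * colZ codeW) (colsOf A))
    (mats.getD j []) (matsT.getD j [])

/-- Check of a separating pair. -/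
noncomputable def witOK (p : ℕ) : Bool :=
  strict (witT.get 20 p) fun w => strict (w &&& 1023) fun a => strict (w >>> 10) fun b =>
    Nat.blt a 891 && Nat.blt b 891 && Nat.beq (Nat.land (mask a) (mask b)) (Nat.shiftLeft 1 p)

theorem base_ok : baseOK = true := by decide +kernel

theorem vec_ok : allFrom vecOK 891 0 = true := by decide +kernel

theorem gen_ok : allFrom genOK 10 0 = true := by decide +kernel

theorem wit_ok : allFrom witOK 693 0 = true := by decide +kernel

/-- Check of all images under one matrix. -/
noncomputable def imgsOK (j : ℕ) : Bool :=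
  (fun cols => allFrom (imgOK j cols) 891 0) (colsOf (mats.getD j []))

theorem imgs_ok : allFrom imgsOK 10 0 = true := by decide +kernel

end CfsgLib.Leech.Triangle.U6
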